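import Cfsg.Agent.EqLemmas

/-!
# The group Qd(p) in coordinates

* `mem_qd`: `qd p` is the set of affine matrices.
* `el p a b c e x y`: the element with block `!![a, b; c, e]` and translation `(x, y)`.
* `el_mul`, `el_inv`, `el_congr`, `exists_el`: coordinates.
* `transE p`: the translation subgroup; normal, commutative, exponent `p`.
* `eq_top_of_mem`: generation by translations and the two transvection subgroups.
* `commutator_eq_top`: `Qd(p)` is perfect for `p > 3`.
-/

open Subgroup Matrix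
open scoped commutatorElement

namespace Cfsg.Agent.Qd

variable (p : ℕ) [Fact p.Prime]

abbrev Aff := Matrix.SpecialLinearGroup (Fin 3) (ZMod p)

theorem qd_carrier :
    ((Cfsg.qd p) : Set (Aff p)) = {M : Aff p | (M : Matrix (Fin 3) (Fin 3) (ZMod p)) 2 0 = 0 ∧
      (M : Matrix (Fin 3) (Fin 3) (ZMod p)) 2 1 = 0 ∧ (M : Matrix (Fin 3) (Fin 3) (ZMod p)) 2 2 = 1} := by
  let S : Subgroup (Aff p) :=
    { carrier := {M : Aff p | (M : Matrix (Fin 3) (Fin 3) (ZMod p)) 2 0 = 0 ∧
        (M : Matrix (Fin 3) (Fin 3) (ZMod p)) 2 1 = 0 ∧ (M : Matrix (Fin 3) (Fin 3) (ZMod p)) 2 2 = 1}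
      one_mem' := by simp
      mul_mem' := by
        rintro M N ⟨h0, h1, h2⟩ ⟨k0, k1, k2⟩
        simp [Matrix.mul_apply, Fin.sum_univ_three, h0, h1, h2, k0, k1, k2]
      inv_mem' := by
        rintro M ⟨h0, h1, h2⟩
        have hr : ∀ j, ((M : Matrix (Fin 3) (Fin 3) (ZMod p)) * (↑(M⁻¹) : Matrix (Fin 3) (Fin 3) (ZMod p))) 2 j =
            (1 : Matrix (Fin 3) (Fin 3) (ZMod p)) 2 j := fun j => by
          rw [← Matrix.SpecialLinearGroup.coe_mul, mul_inv_cancel, Matrix.SpecialLinearGroup.coe_one]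
        have e0 := hr 0
        have e1 := hr 1
        have e2 := hr 2
        rw [Matrix.mul_apply, Fin.sum_univ_three, h0, h1, h2] at e0 e1 e2
        refine ⟨?_, ?_, ?_⟩ <;> simp only [zero_mul, one_mul, zero_add] at e0 e1 e2
        · exact e0.trans (by simp)
        · exact e1.trans (by simp)
        · exact e2.trans (by simp) }
  show ((Subgroup.closure (S : Set (Aff p))) : Set (Aff p)) = S
  rw [Subgroup.closure_eq]

theorem mem_qd {M : Aff p} : M ∈ Cfsg.qd p ↔ (M : Matrix (Fin 3) (Fin 3) (ZMod p)) 2 0 = 0 ∧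
      (M : Matrix (Fin 3) (Fin 3) (ZMod p)) 2 1 = 0 ∧ (M : Matrix (Fin 3) (Fin 3) (ZMod p)) 2 2 = 1 :=
  Set.ext_iff.mp (qd_carrier p) M

/-- The affine map with linear part `!![a, b; c, e]` and translation `(x, y)`. -/
def el (a b c e x y : ZMod p) (h : a * e - b * c = 1) : ↥(Cfsg.qd p) :=
  ⟨⟨!![a, b, x; c, e, y; 0, 0, 1], by rw [Matrix.det_fin_three]; simp; linear_combination h⟩,
    (mem_qd p).mpr ⟨rfl, rfl, rfl⟩⟩

theorem el_congr {a b c e x y a' b' c' e' x' y' : ZMod p} {h : a * e - b * c = 1} {h' : a' * e' - b' * c' = 1}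
    (ha : a = a') (hb : b = b') (hc : c = c') (he : e = e') (hx : x = x') (hy : y = y') :
    el p a b c e x y h = el p a' b' c' e' x' y' h' := by
  subst ha; subst hb; subst hc; subst he; subst hx; subst hy; rfl

theorem el_eq_iff {a b c e x y a' b' c' e' x' y' : ZMod p} {h : a * e - b * c = 1} {h' : a' * e' - b' * c' = 1} :
    el p a b c e x y h = el p a' b' c' e' x' y' h' ↔
      a = a' ∧ b = b' ∧ c = c' ∧ e = e' ∧ x = x' ∧ y = y' := by
  refine ⟨fun H => ?_, fun ⟨h1, h2, h3, h4, h5, h6⟩ => el_congr p h1 h2 h3 h4 h5 h6⟩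
  have := fun i j => congrArg (fun q : ↥(Cfsg.qd p) => ((q : Aff p) : Matrix (Fin 3) (Fin 3) (ZMod p)) i j) H
  exact ⟨by simpa [el] using this 0 0, by simpa [el] using this 0 1, by simpa [el] using this 1 0,
    by simpa [el] using this 1 1, by simpa [el] using this 0 2, by simpa [el] using this 1 2⟩

theorem el_mul {a b c e x y a' b' c' e' x' y' : ZMod p} (h : a * e - b * c = 1) (h' : a' * e' - b' * c' = 1) :
    el p a b c e x y h * el p a' b' c' e' x' y' h' =
      el p (a * a' + b * c') (a * b' + b * e') (c * a' + e * c') (c * b' + e * e')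
        (a * x' + b * y' + x) (c * x' + e * y' + y)
        (by linear_combination (a' * e' - b' * c') * h + h') := by
  refine Subtype.ext (Matrix.SpecialLinearGroup.ext _ _ fun i j => ?_)
  show ((!![a, b, x; c, e, y; 0, 0, 1] : Matrix (Fin 3) (Fin 3) (ZMod p)) * !![a', b', x'; c', e', y'; 0, 0, 1]) i j = _
  fin_cases i <;> fin_cases j <;> simp [el, Matrix.mul_apply, Fin.sum_univ_three]

theorem el_one : el p 1 0 0 1 0 0 (by ring) = 1 := by
  refine Subtype.ext (Matrix.SpecialLinearGroup.ext _ _ fun i j => ?_)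
  fin_cases i <;> fin_cases j <;> simp [el]

theorem el_inv {a b c e x y : ZMod p} (h : a * e - b * c = 1) :
    (el p a b c e x y h)⁻¹ = el p e (-b) (-c) a (-(e * x - b * y)) (c * x - a * y)
      (by linear_combination h) := by
  apply inv_eq_of_mul_eq_one_right
  rw [el_mul, ← el_one p]
  refine el_congr p ?_ ?_ ?_ ?_ ?_ ?_
  · linear_combination h
  · ring
  · ring
  · linear_combination h
  · linear_combination (-x) * h
  · linear_combination (-y) * h

theorem exists_el (q : ↥(Cfsg.qd p)) : ∃ a b c e x y h, q = el p a b c e x y h := by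
  obtain ⟨M, hM⟩ := q
  obtain ⟨h0, h1, h2⟩ := (mem_qd p).mp hM
  have hd : M.1.det = 1 := M.2
  rw [Matrix.det_fin_three] at hd
  simp only [h0, h1, h2, mul_zero, zero_mul, mul_one, sub_zero, add_zero] at hd
  refine ⟨M.1 0 0, M.1 0 1, M.1 1 0, M.1 1 1, M.1 0 2, M.1 1 2, hd, ?_⟩
  refine Subtype.ext (Matrix.SpecialLinearGroup.ext _ _ fun i j => ?_)
  fin_cases i <;> fin_cases j <;> simp [el, h0, h1, h2]

/-- Translation by `(x, y)`. -/
def tr (x y : ZMod p) : ↥(Cfsg.qd p) := el p 1 0 0 1 x y (by ring)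
/-- Upper transvection. -/
def up (x : ZMod p) : ↥(Cfsg.qd p) := el p 1 x 0 1 0 0 (by ring)
/-- Lower transvection. -/
def low (x : ZMod p) : ↥(Cfsg.qd p) := el p 1 0 x 1 0 0 (by ring)
/-- The element `-1` of the complement `SL(2, p)`. -/
def sgn : ↥(Cfsg.qd p) := el p (-1) 0 0 (-1) 0 0 (by ring)
/-- The element of order four interchanging the transvection subgroups. -/
def wgt : ↥(Cfsg.qd p) := el p 0 1 (-1) 0 0 0 (by ring)

theorem tr_mul (x y x' y' : ZMod p) : tr p x y * tr p x' y' = tr p (x + x') (y + y') := by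
  rw [tr, tr, tr, el_mul]; apply el_congr <;> ring

theorem tr_zero : tr p 0 0 = 1 := el_one p

theorem tr_inv (x y : ZMod p) : (tr p x y)⁻¹ = tr p (-x) (-y) := by
  apply inv_eq_of_mul_eq_one_right
  rw [tr_mul, add_neg_cancel, add_neg_cancel, tr_zero]

theorem tr_pow (x y : ZMod p) (n : ℕ) : tr p x y ^ n = tr p (n * x) (n * y) := by
  induction n with
  | zero => simp [tr_zero]
  | succ n ih => rw [pow_succ, ih, tr_mul]; congr 1 <;> push_cast <;> ring

theorem up_mul (x x' : ZMod p) : up p x * up p x' = up p (x + x') := by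
  rw [up, up, up, el_mul]; apply el_congr <;> ring

theorem up_pow (x : ZMod p) (n : ℕ) : up p x ^ n = up p (n * x) := by
  induction n with
  | zero => simp [up, el_one]
  | succ n ih => rw [pow_succ, ih, up_mul]; congr 1; push_cast; ring

/-- The translation subgroup. -/
def transE : Subgroup ↥(Cfsg.qd p) where
  carrier := {q | ∃ x y, q = tr p x y}
  one_mem' := ⟨0, 0, (tr_zero p).symm⟩
  mul_mem' := by rintro _ _ ⟨x, y, rfl⟩ ⟨x', y', rfl⟩; exact ⟨_, _, tr_mul p x y x' y'⟩
  inv_mem' := by rintro _ ⟨x, y, rfl⟩; exact ⟨_, _, tr_inv p x y⟩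

theorem tr_mem (x y : ZMod p) : tr p x y ∈ transE p := ⟨x, y, rfl⟩

theorem conj_tr {a b c e x y : ZMod p} (h : a * e - b * c = 1) (u v : ZMod p) :
    el p a b c e x y h * tr p u v * (el p a b c e x y h)⁻¹ = tr p (a * u + b * v) (c * u + e * v) := by
  rw [tr, tr, mul_inv_eq_iff_eq_mul, el_mul, el_mul]; apply el_congr <;> ring

instance transE_normal : (transE p).Normal where
  conj_mem := by
    rintro _ ⟨u, v, rfl⟩ g
    obtain ⟨a, b, c, e, x, y, h, rfl⟩ := exists_el p g
    exact ⟨_, _, conj_tr p h u v⟩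

theorem transE_pow {q : ↥(Cfsg.qd p)} (hq : q ∈ transE p) : q ^ p = 1 := by
  obtain ⟨x, y, rfl⟩ := hq
  rw [tr_pow, CharP.cast_eq_zero, zero_mul, zero_mul, tr_zero]

theorem isPGroup_transE : IsPGroup p (transE p) :=
  fun q => ⟨1, Subtype.ext (by simpa using transE_pow p q.2)⟩

theorem up_mem_transE_iff (x : ZMod p) : up p x ∈ transE p ↔ x = 0 := by
  refine ⟨fun ⟨u, v, h⟩ => ((el_eq_iff p).mp h).2.1, fun h => ⟨0, 0, ?_⟩⟩
  subst h; rfl

theorem sgn_comm_mod (g : ↥(Cfsg.qd p)) : g * sgn p * g⁻¹ * (sgn p)⁻¹ ∈ transE p := by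
  obtain ⟨a, b, c, e, x, y, h, rfl⟩ := exists_el p g
  refine ⟨2 * x, 2 * y, ?_⟩
  rw [mul_inv_eq_iff_eq_mul, mul_inv_eq_iff_eq_mul, sgn, tr, el_mul, el_mul, el_mul]
  apply el_congr <;> ring

theorem sgn_conj_tr (x y : ZMod p) : sgn p * tr p x y * (sgn p)⁻¹ = (tr p x y)⁻¹ := by
  rw [sgn, conj_tr, tr_inv]; congr 1 <;> ring

theorem sgn_sq : sgn p * sgn p = 1 := by
  rw [sgn, el_mul, ← el_one p]; apply el_congr <;> ring

theorem sgn_ne_one (hp : p ≠ 2) : sgn p ≠ 1 := by
  rw [sgn, ← el_one p, Ne, el_eq_iff]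
  haveI : Fact (2 < p) := ⟨lt_of_le_of_ne (Fact.out : p.Prime).two_le (Ne.symm hp)⟩
  exact fun h => ZMod.neg_one_ne_one h.1

theorem wgt_conj_up (x : ZMod p) : wgt p * up p x * (wgt p)⁻¹ = low p (-x) := by
  rw [wgt, up, low, mul_inv_eq_iff_eq_mul, el_mul, el_mul]; apply el_congr <;> ring

/-- Generation by translations and transvections. -/
theorem eq_top_of_mem {S : Subgroup ↥(Cfsg.qd p)} (ht : ∀ x y, tr p x y ∈ S) (hu : ∀ x, up p x ∈ S)
    (hl : ∀ x, low p x ∈ S) : S = ⊤ := by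
  rw [eq_top_iff]
  have key : ∀ a b c e (h : a * e - b * c = (1 : ZMod p)), c ≠ 0 → el p a b c e 0 0 h ∈ S := by
    intro a b c e h hc
    have : el p a b c e 0 0 h = up p ((a - 1) / c) * low p c * up p ((e - 1) / c) := by
      simp only [up, low, el_mul]
      apply el_congr <;> field_simp <;> first | ring1 | linear_combination h | linear_combination -h
    rw [this]
    exact mul_mem (mul_mem (hu _) (hl _)) (hu _)
  rintro q -
  obtain ⟨a, b, c, e, x, y, h, rfl⟩ := exists_el p q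
  have hdec : el p a b c e x y h = tr p x y * el p a b c e 0 0 h := by
    rw [tr, el_mul]; apply el_congr <;> ring
  rw [hdec]
  refine mul_mem (ht x y) ?_
  rcases eq_or_ne c 0 with rfl | hc
  · have ha : a ≠ 0 := by rintro rfl; simp at h
    have : el p a b 0 e 0 0 h = low p (-1) * el p a b a (b + e) 0 0 (by linear_combination h) := by
      rw [low, el_mul]; apply el_congr <;> ring
    rw [this]
    exact mul_mem (hl _) (key _ _ _ _ _ ha)
  · exact key _ _ _ _ _ hc

theorem three_ne_zero' (hp : 3 < p) : (3 : ZMod p) ≠ 0 := by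
  intro h
  have : ((3 : ℕ) : ZMod p) = 0 := by exact_mod_cast h
  rw [ZMod.natCast_eq_zero_iff] at this
  exact absurd (Nat.le_of_dvd (by norm_num) this) (by omega)

theorem two_ne_zero' (hp : 3 < p) : (-2 : ZMod p) ≠ 0 := by
  intro h
  have : ((2 : ℕ) : ZMod p) = 0 := by exact_mod_cast neg_eq_zero.mp h
  rw [ZMod.natCast_eq_zero_iff] at this
  exact absurd (Nat.le_of_dvd (by norm_num) this) (by omega)

/-- The torus element `diag(-2, -1/2)`. -/
def tor (hp : 3 < p) : ↥(Cfsg.qd p) :=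
  el p (-2) 0 0 (-2)⁻¹ 0 0 (by rw [mul_inv_cancel₀ (two_ne_zero' p hp)]; ring)

theorem tor_conj_tr (hp : 3 < p) (x : ZMod p) : tor p hp * tr p x 0 * (tor p hp)⁻¹ = tr p (-2 * x) 0 := by
  rw [tor, conj_tr]; congr 1 <;> ring

theorem tor_conj_up (hp : 3 < p) (x : ZMod p) : tor p hp * up p x * (tor p hp)⁻¹ = up p (4 * x) := by
  have h2 := two_ne_zero' p hp
  have hi : (-2 : ZMod p) * (-2)⁻¹ = 1 := mul_inv_cancel₀ h2
  rw [tor, up, up, mul_inv_eq_iff_eq_mul, el_mul, el_mul]
  apply el_congr <;> first | ring1 | linear_combination 2 * x * hi | linear_combination -2 * x * hi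

theorem commutator_eq_top (hp : 3 < p) : _root_.commutator ↥(Cfsg.qd p) = ⊤ := by
  have h3 := three_ne_zero' p hp
  have hc : ∀ g h : ↥(Cfsg.qd p), g * h * g⁻¹ * h⁻¹ ∈ _root_.commutator ↥(Cfsg.qd p) := fun g h =>
    Subgroup.commutator_mem_commutator (Subgroup.mem_top g) (Subgroup.mem_top h)
  have htx : ∀ x, tr p x 0 ∈ _root_.commutator ↥(Cfsg.qd p) := fun x => by
    have := hc (tor p hp) (tr p (-x / 3) 0)
    rw [tor_conj_tr, tr_inv, tr_mul] at this
    convert this using 2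
    · field_simp; ring
    · ring
  have hu : ∀ x, up p x ∈ _root_.commutator ↥(Cfsg.qd p) := fun x => by
    have := hc (tor p hp) (up p (x / 3))
    rw [tor_conj_up] at this
    convert this using 1
    rw [eq_mul_inv_iff_mul_eq, up_mul]
    congr 1
    field_simp; ring
  have hn : ∀ g q, q ∈ _root_.commutator ↥(Cfsg.qd p) → g * q * g⁻¹ ∈ _root_.commutator ↥(Cfsg.qd p) :=
    fun g q hq => Subgroup.Normal.conj_mem inferInstance q hq g
  refine eq_top_of_mem p (fun x y => ?_) hu (fun x => ?_)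
  · have h1 := hn (wgt p) _ (htx (-y))
    rw [wgt, conj_tr] at h1
    have := mul_mem (htx x) h1
    rw [tr_mul] at this
    convert this using 2 <;> ring
  · have h1 := hn (wgt p) _ (hu (-x))
    rwa [wgt_conj_up, neg_neg] at h1

end Cfsg.Agent.Qd
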